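import Mathlib
import Cfsg.Agent.Solv.ExtAction
import Cfsg.Agent.Solv.Coprime2
import Cfsg.Agent.Solv.Coprime3
import Cfsg.Agent.Inv.AutTwo
import Cfsg.Agent.Inv.AutCyc
import Cfsg.Agent.Inv.CoreSig2
import Cfsg.Agent.Inv.RankOne

/-!
External coprime actions: generation by fixed points of the non-trivial elements of a non-cyclic
abelian group, and odd order groups acting on 2-groups with a unique involution.
-/

set_option autoImplicit false

namespace Cfsg.Agent.XG

open Subgroup Cfsg.Agent.Solv Cfsg.Agent.Solv.Ext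

variable {A W : Type*} [Group A] [Group W] [MulDistribMulAction A W]

variable (W) in
/-- The fixed points of `a`. -/
def Fx (a : A) : Subgroup W where
  carrier := {x | a • x = x}
  one_mem' := smul_one a
  mul_mem' := fun {x y} hx hy => by
    change a • (x * y) = x * y
    rw [smul_mul', hx, hy]
  inv_mem' := fun {x} hx => by
    change a • x⁻¹ = x⁻¹
    rw [smul_inv', hx]

theorem mem_Fx {a : A} {x : W} : x ∈ Fx W a ↔ a • x = x := Iff.rfl

theorem Fx_le_of_mem_zpowers {a b : A} (h : b ∈ zpowers a) : Fx W a ≤ Fx W b := by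
  intro x hx
  have : zpowers a ≤ MulAction.stabilizer A x := zpowers_le.2 hx
  exact this h

theorem inv_Fx (hc : ∀ a b : A, a * b = b * a) (a : A) : Inv A (Fx W a) := by
  intro b x hx
  rw [mem_Fx] at hx ⊢
  rw [smul_smul, hc, ← smul_smul, hx]

/-- Generation by fixed points. -/
theorem le_of_Fx_le [Finite A] [Finite W] (B : Subgroup A) [hB : IsMulCommutative B]
    (hnc : ¬ IsCyclic B) (K : Subgroup W) (hK : ∀ b ∈ B, ∀ x ∈ K, b • x ∈ K)
    (hcop : (Nat.card B).Coprime (Nat.card K)) (L : Subgroup W)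
    (hL : ∀ b ∈ B, b ≠ 1 → K ⊓ Fx W b ≤ L) : K ≤ L := by
  have := finite_SD (A := A) (G := W)
  have e := B.equivMapOfInjective (iA A W) iA_injective
  have hB' : IsMulCommutative (B.map (iA A W)) := Subgroup.map_isMulCommutative B _
  have hnc' : ¬ IsCyclic (B.map (iA A W)) := fun h => hnc (isCyclic_of_surjective e.symm e.symm.surjective)
  have key := le_of_centralizers_le (B.map (iA A W)) (K.map (iG A W)) hnc' ?_ ?_ (L.map (iG A W)) ?_
  · intro x hx
    obtain ⟨y, hy, hxy⟩ := key (mem_map_of_mem _ hx)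
    rwa [← iG_injective hxy]
  · rw [Subgroup.le_normalizer_iff]
    rintro _ ⟨b, hb, rfl⟩ _ ⟨x, hx, rfl⟩
    rw [← iG_smul]
    exact mem_map_of_mem _ (hK b hb x hx)
  · rw [card_map_iG, Subgroup.card_map_of_injective iA_injective]
    exact hcop
  · rintro _ ⟨b, hb, rfl⟩ hb1 _ ⟨⟨x, hx, rfl⟩, hc⟩
    refine mem_map_of_mem _ (hL b hb (fun h => hb1 (by rw [h, map_one])) ⟨hx, ?_⟩)
    apply iG_injective (A := A)
    rw [iG_smul, mem_centralizer_singleton_iff.1 hc |>.symm, mul_inv_cancel_right]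

/-- The action on an invariant subgroup, as a homomorphism. -/
theorem exists_toMulAut {Q : Subgroup W} (hQ : Inv A Q) :
    ∃ φ : A →* MulAut Q, ∀ (a : A) (x : Q), ((φ a x : Q) : W) = a • (x : W) := by
  obtain ⟨_, h⟩ := exists_subAction hQ
  exact ⟨MulDistribMulAction.toMulAut A Q, fun a x => h a x⟩

/-- An element of odd order fixes an invariant subgroup whose automorphism group is a 2-group. -/
theorem fix_of_isPGroup_mulAut {Q : Subgroup W} (hQ : Inv A Q) (h : IsPGroup 2 (MulAut Q))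
    {a : A} (ha : Odd (orderOf a)) : Q ≤ Fx W a := by
  obtain ⟨φ, hφ⟩ := exists_toMulAut hQ
  obtain ⟨k, hk⟩ := h (φ a)
  have h1 : orderOf (φ a) = 1 :=
    Nat.eq_one_of_dvd_coprimes ((Nat.Coprime.pow_right k (Nat.coprime_two_right.2 ha)))
      (orderOf_map_dvd φ a) (orderOf_dvd_of_pow_eq_one hk)
  rw [orderOf_eq_one_iff] at h1
  intro x hx
  have := hφ a ⟨x, hx⟩
  rw [h1] at this
  exact this.symm

theorem fix_of_isCyclic [Finite W] {Q : Subgroup W} (hQ : Inv A Q) (h2 : IsPGroup 2 Q)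
    (h : IsCyclic Q) {a : A} (ha : Odd (orderOf a)) : Q ≤ Fx W a :=
  fix_of_isPGroup_mulAut hQ (Inv.CoreSig.isPGroup_mulAut_of_isCyclic h2 h) ha

/-- An element of odd order fixing `g⁻¹ (a g)` fixes `g`. -/
theorem fix_of_fix_diff (hW : IsPGroup 2 W) {a : A} (ha : Odd (orderOf a)) {g : W}
    (h : g⁻¹ * a • g ∈ Fx W a) : g ∈ Fx W a :=
  Inv.aut_fix_of_fix_diff hW (MulDistribMulAction.toMulAut A W a) ha
    (by rw [← map_pow, pow_orderOf_eq_one, map_one]) g h

/-- An element of odd order fixing a subgroup of index 2 of an invariant 2-subgroup fixes it. -/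
theorem fix_of_relIndex_two (hW : IsPGroup 2 W) {Q C : Subgroup W} (hQ : Inv A Q)
    (hi : C.relIndex Q = 2) {a : A} (ha : Odd (orderOf a)) (hC : C ≤ Fx W a) : Q ≤ Fx W a := by
  intro g hg
  by_cases hgC : g ∈ C
  · exact hC hgC
  refine fix_of_fix_diff hW ha (hC ?_)
  have hag : a • g ∉ C := by
    intro h
    have h1 : a • a • g = a • g := hC h
    rw [smul_left_cancel_iff] at h1
    exact hgC (h1 ▸ h)
  have := (Subgroup.mul_mem_iff_of_index_two (H := C.subgroupOf Q) hi
    (a := ⟨g, hg⟩⁻¹) (b := ⟨a • g, hQ a g hg⟩)).2 (by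
      rw [inv_mem_iff, mem_subgroupOf, mem_subgroupOf]
      exact ⟨fun h => absurd h hgC, fun h => absurd h hag⟩)
  exact this

/-- The pointwise stabiliser of a subgroup. -/
def Ker (A : Type*) [Group A] [MulDistribMulAction A W] (Q : Subgroup W) : Subgroup A where
  carrier := {a | ∀ x ∈ Q, a • x = x}
  one_mem' := fun x _ => one_smul A x
  mul_mem' := fun {a b} ha hb x hx => by rw [mul_smul, hb x hx, ha x hx]
  inv_mem' := fun {a} ha x hx => by rw [inv_smul_eq_iff, ha x hx]

theorem mem_Ker {Q : Subgroup W} {a : A} : a ∈ Ker A Q ↔ Q ≤ Fx W a := Iff.rfl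

/-- An odd order group acting on an invariant `Q₈`: the kernel has index dividing 3. -/
theorem index_Ker_Q8 [Finite A] (hA : Odd (Nat.card A)) {Q : Subgroup W} (hQ : Inv A Q)
    (e : Q ≃* QuaternionGroup 2) : (Ker A Q).index ∣ 3 := by
  obtain ⟨φ, hφ⟩ := exists_toMulAut hQ
  let ψ : A →* MulAut (QuaternionGroup 2) := (MulAut.congr e).toMonoidHom.comp φ
  have := Inv.isKleinFour_Q8_quotient
  have h6 := Inv.index_ker_dvd_six ((Inv.autQuotCenter (QuaternionGroup 2)).comp ψ)
  have hk : ((Inv.autQuotCenter (QuaternionGroup 2)).comp ψ).ker = Ker A Q := by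
    ext a
    constructor
    · intro ha
      obtain ⟨q, hq⟩ := Inv.Q8_inner_of_mem_ker (φ := ψ a) ha
      have hq4 : q ^ 4 = 1 := by
        have : ∀ q : QuaternionGroup 2, q ^ 4 = 1 := by decide
        exact this q
      have h1 : ψ a = MulAut.conj q := MulEquiv.ext fun x => by rw [hq, MulAut.conj_apply]
      have h4 : ψ a ^ 4 = 1 := by rw [h1, ← map_pow, hq4, map_one]
      have hodd : Odd (orderOf a) := hA.of_dvd_nat (orderOf_dvd_natCard a)
      have h1 : orderOf (ψ a) = 1 :=
        Nat.eq_one_of_dvd_coprimes ((Nat.Coprime.pow_right 2 (Nat.coprime_two_right.2 hodd)))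
          (orderOf_map_dvd ψ a) (orderOf_dvd_of_pow_eq_one h4)
      rw [orderOf_eq_one_iff] at h1
      have h2 : φ a = 1 := (MulAut.congr e).injective (by rw [map_one]; exact h1)
      intro x hx
      have := hφ a ⟨x, hx⟩
      rw [h2] at this
      exact this.symm
    · intro ha
      have h2 : φ a = 1 := MulEquiv.ext fun x => Subtype.ext (by rw [hφ]; exact ha x x.2)
      rw [MonoidHom.mem_ker, MonoidHom.comp_apply]
      have : ψ a = 1 := by
        change (MulAut.congr e) (φ a) = 1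
        rw [h2, map_one]
      rw [this, map_one]
  rw [hk] at h6
  have hodd : Odd (Ker A Q).index := hA.of_dvd_nat (Subgroup.index_dvd_card _)
  exact (Nat.Coprime.dvd_of_dvd_mul_left (Nat.coprime_two_right.2 hodd) (by simpa using h6))

/-- An invariant 2-subgroup with at most one involution which is moved by an odd order group is
`Q₈`. -/
theorem Q8_of_unique_involution [Finite W] {Q : Subgroup W} (hQ : Inv A Q) (h2 : IsPGroup 2 Q)
    (hu : ∀ x ∈ Q, ∀ y ∈ Q, orderOf x = 2 → orderOf y = 2 → x = y)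
    {a : A} (ha : Odd (orderOf a)) (hn : ¬ Q ≤ Fx W a) : Nonempty (Q ≃* QuaternionGroup 2) := by
  rcases Inv.cyclic_or_quaternion_of_unique_involution' h2 hu with h | ⟨n, ⟨e⟩⟩
  · exact absurd (fix_of_isCyclic hQ h2 h ha) hn
  rcases Nat.eq_zero_or_pos n with rfl | hn0
  · exact ⟨e⟩
  · exact absurd (fix_of_isPGroup_mulAut hQ (Inv.AutCyc.isPGroup_mulAut_congr e
      (Inv.AutCyc.isPGroup_mulAut_quaternion (by omega))) ha) hn

end Cfsg.Agent.XG
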